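import Groth.Agent.H02CA.HTorComp.Core
import Groth.Agent.H10Coh.Bounded
import Groth.Agent.H16Derived.KFlat.RestrictD

/-!
# Vanishing range of `RΓ` for a separated scheme with a finite affine cover
-/

set_option autoImplicit false
set_option linter.style.haveILetI false
set_option backward.isDefEq.respectTransparency false

universe u

open CategoryTheory CategoryTheory.Limits AlgebraicGeometry TopologicalSpace

attribute [local instance] HasDerivedCategory.standard

noncomputable section

namespace Groth.Agent.H02CA.HTorComp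

open Groth.Agent.H16Derived Groth.Agent.H16Derived.KFlat.Stalk Groth.Agent.H16Derived.QCohD

variable {A : Type u} [CommRing A] {X : Scheme.{u}} (f : X ⟶ Spec (CommRingCat.of A))

attribute [local instance 10000] H10Coh.hasSheafifyAb H10Coh.hasWeakSheafifyAb H10Coh.hasExtAb H10Coh.enoughInjAb in
theorem bound_of_affine_cover [IsSeparated f] (N : ℕ) (U : Fin (N + 1) → X.Opens)
    (hU : ∀ i, IsAffineOpen (U i)) (hcov : ⨆ i, U i = ⊤) : Bound f (N + 1) := by
  haveI : X.IsSeparated := ⟨by
    rw [← terminal.comp_from f]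
    infer_instance⟩
  intro M hM _ p hp
  rw [IsZero.iff_id_eq_zero]
  refine (H10Coh.shF _).map_injective
    ((IsZero.of_iso ?_ (H10Coh.nonempty_toAb_rpush f M p).some).eq_of_src _ _)
  obtain ⟨n, rfl⟩ := Nat.exists_eq_succ_of_ne_zero (show p ≠ 0 by omega)
  refine H10Coh.isZero_rpush_of_vanishing f.base (Coh.toAb M) n
    {W | ∃ g : Γ(Spec (CommRingCat.of A), ⊤), W = (Spec (CommRingCat.of A)).basicOpen g} ?_ ?_
  · rw [Opens.isBasis_iff_nbhd]
    intro O x hx
    obtain ⟨g, hg, hxg⟩ := (isAffineOpen_top _).exists_basicOpen_le ⟨x, hx⟩ (Opens.mem_top x)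
    exact ⟨_, ⟨g, rfl⟩, hxg, hg⟩
  · rintro W ⟨g, rfl⟩
    have hpre : f ⁻¹ᵁ (Spec (CommRingCat.of A)).basicOpen g = X.basicOpen (f.app ⊤ g) :=
      Scheme.preimage_basicOpen f g
    have hV : ∀ i, IsAffineOpen (U i ⊓ X.basicOpen (f.app ⊤ g)) := fun i => by
      have h := X.basicOpen_res (f.app ⊤ g) (homOfLE (le_top : U i ≤ ⊤)).op
      rw [← h]
      exact (hU i).basicOpen _
    have := @H10Coh.subsingleton_of_affine_cover X (fun V W hV hW => hV.inf hW) M hM (N + 1)
      (fun i => U i ⊓ X.basicOpen (f.app ⊤ g)) hV (n + 1) (by omega)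
    rw [← iSup_inf_eq, hcov, top_inf_eq, ← hpre] at this
    exact this

/-- Quasi-coherent cohomology transfers along tilde. -/
theorem subsingleton_HD_of_isZero (M : Dual.D A) (i : ℤ)
    (h : IsZero (DCoh.HD ((DCoh.tildeD (CommRingCat.of A)).obj M) i)) : Subsingleton (Dual.HD A M i) := by
  let e := DerivedCategory.Q.objObjPreimageIso M
  let C := DerivedCategory.Q.objPreimage M
  let F := tilde.functor (CommRingCat.of A)
  let w : DCoh.HD ((DCoh.tildeD (CommRingCat.of A)).obj M) i ≅ F.obj (C.homology i) :=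
    (DerivedCategory.homologyFunctor _ i).mapIso ((DCoh.tildeD (CommRingCat.of A)).mapIso e.symm ≪≫
      F.mapDerivedCategoryFactors.app C) ≪≫
    (DerivedCategory.homologyFunctorFactors _ i).app _ ≪≫
    ((C.sc i).mapHomologyIso F)
  have hz : IsZero (C.homology i) := by
    rw [IsZero.iff_id_eq_zero]
    exact F.map_injective ((h.of_iso w.symm).eq_of_src _ _)
  exact ModuleCat.subsingleton_of_isZero (hz.of_iso ((DerivedCategory.homologyFunctor _ i).mapIso e.symm ≪≫
    (DerivedCategory.homologyFunctorFactors _ i).app C))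

end Groth.Agent.H02CA.HTorComp
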