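import Groth.Agent.H16Derived.KFlat.GammaDerived
import Groth.Agent.H16Derived.QCohD.Equiv
import Groth.Agent.H16Derived.QCohD.RpushUnb
import Groth.Agent.H16Derived.QCohD.Lpull
import Groth.Prelude.Def_HTor

/-!
# `RΓ(X, -)` with values in `D(A)` through `Rf_*`
-/

set_option autoImplicit false
set_option linter.style.haveILetI false
set_option backward.isDefEq.respectTransparency false

universe u

open CategoryTheory CategoryTheory.Limits CategoryTheory.Functor AlgebraicGeometry

attribute [local instance] HasDerivedCategory.standard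

noncomputable section

namespace Groth.Agent.H02CA.HTorComp

open Groth.Agent.H16Derived Groth.Agent.H16Derived.KFlat.Stalk Groth.Agent.H16Derived.QCohD

variable {A : Type u} [CommRing A] {X : Scheme.{u}} (f : X ⟶ Spec (CommRingCat.of A))

/-- `RΓA(I) = Γ(I)` for K-injective `I`. -/
theorem nonempty_rΓA_kInjective [HTor.HasRΓA f] (I : CochainComplex X.Modules ℤ) [I.IsKInjective] :
    Nonempty ((HTor.RΓA f).obj (DCoh.toD X I) ≅
      DRing.toD (((HTor.globalSectionsA f).mapHomologicalComplex (ComplexShape.up ℤ)).obj I)) := by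
  haveI : (HTor.gammaAKh f).HasPointwiseRightDerivedFunctor
      (HomotopyCategory.quasiIso X.Modules (ComplexShape.up ℤ)) :=
    RDerived.hasPointwiseRightDerivedFunctor_of_resolutions DerivedCategory.Qh _ _ fun M => by
      obtain ⟨I, hI, s, hs⟩ := exists_local M
      exact ⟨_, s, hs, fun K => CochainComplex.IsKInjective.Qh_map_bijective K I⟩
  let u := (HTor.gammaAKh f).totalRightDerivedUnit DerivedCategory.Qh
    (HomotopyCategory.quasiIso X.Modules (ComplexShape.up ℤ))
  let qI := (HomotopyCategory.quotient X.Modules (ComplexShape.up ℤ)).obj I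
  haveI : IsIso (u.app qI) :=
    RDerived.isIso_unit_app_of_bijective DerivedCategory.Qh
      (HomotopyCategory.quasiIso X.Modules (ComplexShape.up ℤ)) _ _ u _
      fun K => CochainComplex.IsKInjective.Qh_map_bijective K I
  exact ⟨(HTor.RΓA f).mapIso ((DerivedCategory.quotientCompQhIso X.Modules).app I).symm ≪≫
    (asIso (u.app qI)).symm ≪≫
    (isoWhiskerRight ((HTor.globalSectionsA f).mapHomotopyCategoryFactors (ComplexShape.up ℤ))
      DerivedCategory.Qh).app I ≪≫ (DerivedCategory.quotientCompQhIso (ModuleCat.{u} A)).app _⟩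

instance additive_ΓSpec (A : Type u) [CommRing A] : (H10Coh.ΓSpec (CommRingCat.of A)).Additive :=
  H10Coh.ΓSpec_additive

/-- A quasi-coherent object is computed by a complex whose tilde is its direct image. -/
theorem exists_computes [QuasiCompact f] [QuasiSeparated f] [HTor.HasRΓA f] [DCoh.HasRpush f]
    {K : DCoh.D X} (hK : DCoh.IsQCohD K) :
    ∃ N : DRing.Cx A, HTor.Computes f N K ∧
      Nonempty ((DCoh.tildeD (CommRingCat.of A)).obj (DRing.toD N) ≅ (DCoh.Rpush f).obj K) := by
  haveI := isGrothendieckAbelian_modules (X := X)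
  obtain ⟨I, hI, ⟨e⟩⟩ := KInjRes.exists_kInjective_iso (A := X.Modules) K
  haveI := hI
  let fI := ((Scheme.Modules.pushforward f).mapHomologicalComplex (ComplexShape.up ℤ)).obj I
  obtain ⟨J, hJ, r, hr⟩ := exists_kInjective_resolution (CommRingCat.of A) fI
  haveI := hJ
  haveI := hr
  haveI := isIso_rpushUnit f I
  haveI := KFlat.Stalk.isIso_Q_map r hr
  let eR : (DCoh.Rpush f).obj K ≅ DCoh.toD _ J :=
    (DCoh.Rpush f).mapIso (e ≪≫ ((DerivedCategory.quotientCompQhIso X.Modules).app I).symm) ≪≫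
      (asIso ((rpushUnit f).app _)).symm ≪≫
      (isoWhiskerRight ((Scheme.Modules.pushforward f).mapHomotopyCategoryFactors (ComplexShape.up ℤ))
        DerivedCategory.Qh).app I ≪≫ (DerivedCategory.quotientCompQhIso _).app fI ≪≫
      asIso (DerivedCategory.Q.map r)
  haveI := quasiIso_counitCx (CommRingCat.of A) J (isQCohD_iso eR (isQCohD_rpush f hK))
  haveI := KFlat.Stalk.isIso_Q_map (counitCx (CommRingCat.of A) J) ‹_›
  let N : DRing.Cx A := ΓCx (CommRingCat.of A) J
  have hg : QuasiIso (((H10Coh.ΓSpec (CommRingCat.of A)).mapHomologicalComplex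
      (ComplexShape.up ℤ)).map r) := by
    refine (HomologicalComplex.quasiIso_map_iff_of_preservesHomology _
      (forget₂ (ModuleCat.{u} (CommRingCat.of A)) AddCommGrpCat.{u})).1 ?_
    exact KFlat.GammaAcyclic.quasiIso_gamma_map f I J r
  haveI : IsIso (DerivedCategory.Q.map (((H10Coh.ΓSpec (CommRingCat.of A)).mapHomologicalComplex
      (ComplexShape.up ℤ)).map r)) := Localization.inverts _ (HomologicalComplex.quasiIso _ (ComplexShape.up ℤ)) _ hg
  obtain ⟨eI⟩ := nonempty_rΓA_kInjective f I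
  exact ⟨N, ⟨(asIso (DerivedCategory.Q.map (((H10Coh.ΓSpec (CommRingCat.of A)).mapHomologicalComplex
      (ComplexShape.up ℤ)).map r))).symm ≪≫ eI.symm ≪≫ (HTor.RΓA f).mapIso e.symm⟩,
    ⟨(tilde.functor (CommRingCat.of A)).mapDerivedCategoryFactors.app N ≪≫
      asIso (DerivedCategory.Q.map (counitCx (CommRingCat.of A) J)) ≪≫ eR.symm⟩⟩

/-- `L` computes `RΓ(X, K)` iff `L~` is `Rf_* K`. -/
theorem computes_iff [QuasiCompact f] [QuasiSeparated f] [HTor.HasRΓA f] [DCoh.HasRpush f]
    {K : DCoh.D X} (hK : DCoh.IsQCohD K) (L : DRing.Cx A) :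
    HTor.Computes f L K ↔
      Nonempty ((DCoh.tildeD (CommRingCat.of A)).obj (DRing.toD L) ≅ (DCoh.Rpush f).obj K) := by
  obtain ⟨N, ⟨eN⟩, ⟨tN⟩⟩ := exists_computes f hK
  haveI := (full_faithful (CommRingCat.of A)).1
  haveI := (full_faithful (CommRingCat.of A)).2
  exact ⟨fun ⟨e⟩ => ⟨(DCoh.tildeD (CommRingCat.of A)).mapIso (e ≪≫ eN.symm) ≪≫ tN⟩,
    fun ⟨e⟩ => ⟨(DCoh.tildeD (CommRingCat.of A)).preimageIso (e ≪≫ tN.symm) ≪≫ eN⟩⟩

end Groth.Agent.H02CA.HTorComp
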