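import Groth.Agent.H02CA.HTorComp.Core
import Groth.Agent.H02CA.Kunneth.RelFlatTensor
import Groth.Agent.H4RSH.TensorTilde

/-!
# Tilde of tensor products and base changes of bounded above complexes of projectives
-/

set_option autoImplicit false
set_option linter.style.haveILetI false
set_option backward.isDefEq.respectTransparency false

universe u

open CategoryTheory CategoryTheory.Limits AlgebraicGeometry MonoidalCategory

attribute [local instance] HasDerivedCategory.standard

noncomputable section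

namespace Groth.Agent.H02CA.HTorComp

open Groth.Agent.H16Derived Groth.Agent.H16Derived.KFlat Groth.Agent.H16Derived.KFlat.Stalk
  Groth.Agent.H16Derived.QCohD Groth.Agent.H4DR.TorAmp

variable {A : Type u} [CommRing A]

/-- Tilde of complexes. -/
abbrev tX (C : DRing.Cx A) : CochainComplex (Spec (CommRingCat.of A)).Modules ℤ :=
  ((tilde.functor (CommRingCat.of A)).mapHomologicalComplex (ComplexShape.up ℤ)).obj C

theorem kflat_tX_of_projective {L : DRing.Cx A} (hL : ∀ i, Projective (L.X i)) (c : ℤ)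
    (hc : DRing.VanishesAbove L c) : kflat (Spec (CommRingCat.of A)) (tX L) :=
  kflat_tilde (H4DR.KFlatMod.isKFlat_of_boundedAbove L c hc fun q =>
    haveI : Module.Projective A (L.X q) := (IsProjective.iff_projective (L.X q)).2 (hL q)
    inferInstance)

/-- `L~ ⊗^L Q~ = (L ⊗ Q)~`. -/
theorem nonempty_T_tilde {L : DRing.Cx A} (hL : ∀ i, Projective (L.X i)) (c : ℤ) (hc : DRing.VanishesAbove L c)
    (Q : DRing.Cx A) :
    Nonempty (((Dual.T (Spec (CommRingCat.of A))).obj ((DCoh.tildeD (CommRingCat.of A)).obj (DRing.toD L))).obj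
        ((DCoh.tildeD (CommRingCat.of A)).obj (DRing.toD Q)) ≅
      (DCoh.tildeD (CommRingCat.of A)).obj (DRing.toD (HTor.tensorCx L Q))) := by
  let φ := (tilde.functor (CommRingCat.of A)).mapDerivedCategoryFactors
  haveI := Dual.isIso_ε (tX L) (tX Q) (Or.inl (TorTest.lkflat_of_kflat (kflat_tX_of_projective hL c hc)))
  exact ⟨((Dual.T _).mapIso (φ.app L)).app _ ≪≫ ((Dual.T _).obj _).mapIso (φ.app Q) ≪≫
    asIso ((Dual.ε _).app (tX L, tX Q)) ≪≫
    DerivedCategory.Q.mapIso ((H4RSH.totNat Q).app L).symm ≪≫ (φ.app _).symm⟩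

/-- `Lg^*(L~) = (L ⊗_A B)~`. -/
theorem nonempty_lpull_tilde {B : Type u} [CommRing B] (φ : A →+* B)
    [DCoh.HasLpull (Spec.map (CommRingCat.ofHom φ))] {L : DRing.Cx A} (hL : ∀ i, Projective (L.X i)) (c : ℤ)
    (hc : DRing.VanishesAbove L c) :
    Nonempty ((DCoh.Lpull (Spec.map (CommRingCat.ofHom φ))).obj
        ((DCoh.tildeD (CommRingCat.of A)).obj (DRing.toD L)) ≅
      (DCoh.tildeD (CommRingCat.of B)).obj (DRing.toD (CohIII.bcCx φ L))) :=
  ⟨(DCoh.Lpull _).mapIso ((tilde.functor (CommRingCat.of A)).mapDerivedCategoryFactors.app L) ≪≫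
    lpullObjIso _ (tX L) (kflat_tX_of_projective hL c hc) ≪≫
    DerivedCategory.Q.mapIso ((pullTildeCxIso φ).app L) ≪≫
    ((tilde.functor (CommRingCat.of B)).mapDerivedCategoryFactors.app (CohIII.bcCx φ L)).symm⟩

end Groth.Agent.H02CA.HTorComp
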